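import Cfsg.Agent.Leech.MatCode

/-!
A faster evaluation of keys and of the test that a word acts by given columns.
-/

set_option autoImplicit false
set_option maxRecDepth 100000
set_option Elab.async false

namespace Cfsg.Agent.SuzCover

open Cfsg Cfsg.Agent.Leech Cfsg.Agent.Golay

/-- The coordinates of the vectors giving the key. -/
def kbCoords : List (List ℤ) :=
  [[2, 0, 0, 0, 0, 0, 0, 0, 0, 0, 0, 0, 2, 0, 2, 0, 2, 2, 2, 0, 0, 0, 2, 2],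
   [0, 2, 0, 0, 0, 0, 0, 0, 0, 0, 0, 0, 2, 2, 2, 2, 2, 0, 0, 2, 0, 0, 2, 0],
   [0, 0, 2, 0, 0, 0, 0, 0, 0, 0, 0, 0, 2, 2, 0, 2, 0, 0, 2, 0, 2, 0, 2, 2],
   [0, 0, 0, 2, 0, 0, 0, 0, 0, 0, 0, 0, 2, 2, 0, 0, 0, 2, 2, 2, 0, 2, 2, 0],
   [0, 0, 0, 0, 2, 0, 0, 0, 0, 0, 0, 0, 2, 2, 0, 0, 2, 2, 0, 2, 2, 0, 0, 2],
   [0, 0, 0, 0, 0, 2, 0, 0, 0, 0, 0, 0, 0, 2, 2, 0, 0, 2, 2, 0, 2, 2, 0, 2],
   [0, 0, 0, 0, 0, 0, 2, 0, 0, 0, 0, 0, 0, 0, 2, 2, 0, 0, 2, 2, 0, 2, 2, 2],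
   [0, 0, 0, 0, 0, 0, 0, 2, 0, 0, 0, 0, 2, 0, 2, 2, 0, 2, 2, 2, 2, 0, 0, 0],
   [0, 0, 0, 0, 0, 0, 0, 0, 2, 0, 0, 0, 0, 2, 0, 2, 2, 0, 2, 2, 2, 2, 0, 0],
   [0, 0, 0, 0, 0, 0, 0, 0, 0, 2, 0, 0, 0, 0, 2, 0, 2, 2, 0, 2, 2, 2, 2, 0],
   [0, 0, 0, 0, 0, 0, 0, 0, 0, 0, 2, 0, 2, 0, 2, 2, 2, 0, 0, 0, 2, 2, 0, 2],
   [0, 0, 0, 0, 0, 0, 0, 0, 0, 0, 0, 2, 0, 2, 0, 2, 2, 2, 0, 0, 0, 2, 2, 2],
   [4, 0, 0, 0, 0, 0, 0, 0, 0, 0, 0, 0, 0, 0, 0, 0, 0, 0, 0, 0, 0, 0, 0, 4],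
   [0, 4, 0, 0, 0, 0, 0, 0, 0, 0, 0, 0, 0, 0, 0, 0, 0, 0, 0, 0, 0, 0, 0, 4],
   [0, 0, 4, 0, 0, 0, 0, 0, 0, 0, 0, 0, 0, 0, 0, 0, 0, 0, 0, 0, 0, 0, 0, 4],
   [0, 0, 0, 4, 0, 0, 0, 0, 0, 0, 0, 0, 0, 0, 0, 0, 0, 0, 0, 0, 0, 0, 0, 4],
   [0, 0, 0, 0, 4, 0, 0, 0, 0, 0, 0, 0, 0, 0, 0, 0, 0, 0, 0, 0, 0, 0, 0, 4],
   [0, 0, 0, 0, 0, 4, 0, 0, 0, 0, 0, 0, 0, 0, 0, 0, 0, 0, 0, 0, 0, 0, 0, 4],
   [0, 0, 0, 0, 0, 0, 4, 0, 0, 0, 0, 0, 0, 0, 0, 0, 0, 0, 0, 0, 0, 0, 0, 4],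
   [0, 0, 0, 0, 0, 0, 0, 4, 0, 0, 0, 0, 0, 0, 0, 0, 0, 0, 0, 0, 0, 0, 0, 4],
   [0, 0, 0, 0, 0, 0, 0, 0, 4, 0, 0, 0, 0, 0, 0, 0, 0, 0, 0, 0, 0, 0, 0, 4],
   [0, 0, 0, 0, 0, 0, 0, 0, 0, 0, 4, 0, 0, 0, 0, 0, 0, 0, 0, 0, 0, 0, 0, 4],
   [0, 0, 0, 0, 0, 0, 0, 0, 0, 0, 0, 4, 0, 0, 0, 0, 0, 0, 0, 0, 0, 0, 0, 4],
   [-1, -1, -1, -1, -1, -1, -1, -1, -1, -1, -1, -1, -1, -1, -1, -1, -1, -1, -1, -1, -1, -1, -1, -5]]

/-- The keys of the spanning vectors. -/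
def genKeys : List ℕ := [16769280, 8224, 16757248, 33792, 16707648, 16642050, 16510992, 526336, 1048577, 4, 14675976, 12578944, 8391796, 8391799, 8391793, 8391805, 8391781, 8391765, 8391733, 8391925, 8392053, 8392309, 8390773, 8389749, 8390890, 8389963, 8391318, 8389043, 8389478, 8390348, 8392088, 8392623, 8391617, 8389405, 8390202, 8388608, 8387701]

/-- The sum of products with the values at the points counted from a given one. -/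
def dotFrom : List ℤ → List GolayPt → (GolayPt → ℤ) → ℤ
  | a :: l, p :: ps, x => a * x p + dotFrom l ps x
  | _, _, _ => 0

/-- The points in order. -/
def ptList : List GolayPt := (List.range 24).map ptOf

/-- The key from the coordinates. -/
def keyFast : List (List ℤ) → (GolayPt → ℤ) → ℕ
  | [], _ => 0
  | d :: l, x => (bif dotFrom d ptList x / 8 % 2 == 1 then 1 else 0) + 2 * keyFast l x

/-- The fast test. -/
def actsFast (w cols : List ℕ) : Bool :=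
  (List.range genVecs.length).all fun i =>
    keyFast kbCoords (wordApp2 w (genVecs.getD i 0)) == xorSel cols (genKeys.getD i 0)

theorem kbCoords_eq : keyBasis.map (fun d => ptList.map d) = kbCoords := by decide +kernel

theorem genKeys_eq : genVecs.map keyOf = genKeys ∧
    (genVecs.all fun v => inLeechB v) = true := by decide +kernel

theorem dotFrom_map (d x : GolayPt → ℤ) : ∀ ps : List GolayPt,
    dotFrom (ps.map d) ps x = (ps.map fun p => d p * x p).sum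
  | [] => rfl
  | p :: ps => by simp [dotFrom, dotFrom_map d x ps]

theorem keyFast_map (x : GolayPt → ℤ) : ∀ l : List (GolayPt → ℤ),
    keyFast (l.map fun d => ptList.map d) x = keyAux l x
  | [] => rfl
  | d :: l => by
    rw [List.map_cons, keyFast, keyAux, keyFast_map x l, dotFrom_map]
    simp only [dotL, ptList, List.map_map, Function.comp_def]

theorem keyFast_eq (x : GolayPt → ℤ) : keyFast kbCoords x = keyOf x := by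
  rw [← kbCoords_eq, keyFast_map]; rfl

theorem actsB_of_fast {w cols : List ℕ} (h : actsFast w cols = true) : actsB w cols = true := by
  simp only [actsFast, List.all_eq_true, List.mem_range] at h
  simp only [actsB, List.all_eq_true, Bool.and_eq_true]
  intro g hg
  refine ⟨List.all_eq_true.mp genKeys_eq.2 g hg, ?_⟩
  obtain ⟨i, hi, rfl⟩ := List.getElem_of_mem hg
  have := h i hi
  rw [keyFast_eq, List.getD_eq_getElem?_getD, List.getElem?_eq_getElem hi, Option.getD_some,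
    ← genKeys_eq.1, List.getD_eq_getElem?_getD, List.getElem?_map, List.getElem?_eq_getElem hi] at this
  simpa using this

end Cfsg.Agent.SuzCover
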